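/-
The Fitting ideal sheaves of a quasi-coherent module of finite type.
-/
import Groth.Agent.Lib.Fitting.More
import Groth.Agent.Lib.ModM1.Ann
import Groth.Agent.Lib.ModM1.Coh
import Groth.Agent.Lib.ModM1.Fpqc
import Groth.Agent.Lib.EffCartier.Comap
import Groth.Agent.Lib.EffCartier.Mul
import Groth.Prelude.Def_BlowUp2
import Groth.Prelude.Def_Fitting
import Mathlib.RingTheory.Localization.BaseChange

universe u

open CategoryTheory Limits AlgebraicGeometry Opposite TopologicalSpace TensorProduct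

namespace Fitting26

open Groth.Agent.M1 Groth.Agent

variable {X : Scheme.{u}} {M : X.Modules}

/-- Fitting ideals commute with restriction to basic opens. -/
theorem ideal_map_basicOpen (hM : Coh.IsQCoh M) (hFT : CohB1.IsFT M) {U : X.Opens}
    (hU : IsAffineOpen U) (g : Γ(X, U)) (r : ℕ) :
    (Fitt.ideal Γ(X, U) Γ(M, U) r).map (ores (X.basicOpen_le g)).hom =
      Fitt.ideal Γ(X, X.basicOpen g) Γ(M, X.basicOpen g) r := by
  haveI := hM
  letI : Algebra Γ(X, U) Γ(X, X.basicOpen g) := (ores (X.basicOpen_le g)).hom.toAlgebra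
  haveI : IsLocalization.Away g Γ(X, X.basicOpen g) := hU.isLocalization_basicOpen g
  letI : Module Γ(X, U) Γ(M, X.basicOpen g) :=
    Module.compHom _ (ores (X.basicOpen_le g)).hom
  haveI : IsScalarTower Γ(X, U) Γ(X, X.basicOpen g) Γ(M, X.basicOpen g) :=
    IsScalarTower.of_algebraMap_smul fun _ _ => rfl
  let l : Γ(M, U) →ₗ[Γ(X, U)] Γ(M, X.basicOpen g) :=
    { toFun := mres M (X.basicOpen_le g)
      map_add' := map_add _
      map_smul' := fun a m => mres_smul M _ a m }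
  haveI : IsLocalizedModule (Submonoid.powers g) l := by
    have hu : IsUnit (ores (X.basicOpen_le g) g) :=
      RingedSpace.isUnit_res_basicOpen X.toRingedSpace g
    constructor
    · rintro ⟨_, n, rfl⟩
      rw [Module.End.isUnit_iff]
      obtain ⟨u, hu'⟩ := hu.pow n
      refine Function.bijective_iff_has_inverse.mpr
        ⟨fun a => (↑u⁻¹ : Γ(X, X.basicOpen g)) • a, fun a => ?_, fun a => ?_⟩
      · change (↑u⁻¹ : Γ(X, X.basicOpen g)) • (ores (X.basicOpen_le g) (g ^ n) • a) = a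
        rw [map_pow, ← hu', ← mul_smul, Units.inv_mul, one_smul]
      · change ores (X.basicOpen_le g) (g ^ n) • ((↑u⁻¹ : Γ(X, X.basicOpen g)) • a) = a
        rw [map_pow, ← hu', ← mul_smul, Units.mul_inv, one_smul]
    · intro t
      obtain ⟨k, t₀, ht⟩ := exists_pow_smul_eq_res_affine M hU g t
      refine ⟨⟨t₀, ⟨g ^ k, k, rfl⟩⟩, ?_⟩
      show ores (X.basicOpen_le g) (g ^ k) • t = mres M (X.basicOpen_le g) t₀
      rw [map_pow, ht]
    · intro a b hab
      obtain ⟨n, hn⟩ := exists_pow_smul_eq_zero_affine M hU g (a - b)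
        ((map_sub _ a b).trans (sub_eq_zero.mpr hab))
      exact ⟨⟨g ^ n, n, rfl⟩, sub_eq_zero.mp ((smul_sub (g ^ n) a b).symm.trans hn)⟩
  haveI := finite_sections hM hFT hU
  have e := (IsLocalizedModule.isBaseChange (Submonoid.powers g) Γ(X, X.basicOpen g) l).equiv
  rw [← FittingLib.ideal_congr e r, FittingLib.ideal_baseChange]
  rfl

/-- The Fitting ideal sheaf has the expected values on affine opens. -/
theorem sheafIdeal_ideal (hM : Coh.IsQCoh M) (hFT : CohB1.IsFT M) (r : ℕ) (U : X.affineOpens) :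
    (Fitt.sheafIdeal M r).ideal U = Fitt.ideal Γ(X, U.1) Γ(M, U.1) r := by
  let I : X.IdealSheafData :=
    { ideal := fun U => Fitt.ideal Γ(X, U.1) Γ(M, U.1) r
      map_ideal_basicOpen := fun U f => ideal_map_basicOpen hM hFT U.2 f r }
  refine le_antisymm (Scheme.IdealSheafData.ideal_ofIdeals_le _ U) ?_
  have h : I ≤ Fitt.sheafIdeal M r := Scheme.IdealSheafData.le_ofIdeals_iff.mpr le_rfl
  exact h U

theorem mem_support_iff (hM : Coh.IsQCoh M) (hFT : CohB1.IsFT M) (r : ℕ) {U : X.Opens}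
    (hU : IsAffineOpen U) {x : X} (hx : x ∈ U) :
    x ∈ (Fitt.sheafIdeal M r).support ↔
      Fitt.ideal Γ(X, U) Γ(M, U) r ≤ (hU.primeIdealOf ⟨x, hx⟩).asIdeal := by
  rw [Scheme.IdealSheafData.mem_support_iff_of_mem (U := ⟨U, hU⟩) hx,
    sheafIdeal_ideal hM hFT, Scheme.mem_zeroLocus_iff]
  refine forall₂_congr fun f hf => ?_
  rw [X.mem_basicOpen f x hx, isUnit_germ_iff hU hx]
  exact not_not

theorem support_zero (hM : Coh.IsQCoh M) (hFT : CohB1.IsFT M) :
    ((Fitt.sheafIdeal M 0).support : Set X) = CohB1.support M := by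
  rw [← support_annSheaf hM hFT]
  ext x
  obtain ⟨U, hU, hxU, -⟩ := exists_isAffineOpen_mem_and_subset (x := x) (U := ⊤) trivial
  haveI := finite_sections hM hFT hU
  rw [SetLike.mem_coe, mem_support_iff hM hFT 0 hU hxU, SetLike.mem_coe,
    Scheme.IdealSheafData.mem_support_iff_of_mem (U := ⟨U, hU⟩) hxU, annSheaf_ideal,
    Scheme.mem_zeroLocus_iff]
  have h := FittingLib.zeroLocus_ideal_zero (R := Γ(X, U)) (M := Γ(M, U))
  have h' := Set.ext_iff.mp h (hU.primeIdealOf ⟨x, hxU⟩)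
  rw [PrimeSpectrum.mem_zeroLocus, PrimeSpectrum.mem_zeroLocus] at h'
  refine h'.trans (forall₂_congr fun f hf => ?_)
  rw [X.mem_basicOpen f x hxU, isUnit_germ_iff hU hxU]
  exact not_not.symm

theorem exists_notMem_support (hM : Coh.IsQCoh M) (hFT : CohB1.IsFT M) (x : X) :
    ∃ r : ℕ, x ∉ (Fitt.sheafIdeal M r).support := by
  obtain ⟨U, hU, hxU, -⟩ := exists_isAffineOpen_mem_and_subset (x := x) (U := ⊤) trivial
  haveI := finite_sections hM hFT hU
  obtain ⟨n, g, hg⟩ := FittingLib.exists_generators (R := Γ(X, U)) (M := Γ(M, U))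
  refine ⟨n, fun h => ?_⟩
  rw [mem_support_iff hM hFT n hU hxU, FittingLib.ideal_eq_top_of_span g hg le_rfl] at h
  exact (hU.primeIdealOf ⟨x, hxU⟩).isPrime.ne_top (top_le_iff.mp h)

theorem isFiniteType (hFP : CohB1.IsFP M) (r : ℕ) :
    BlowUp.IsFiniteTypeIdeal (Fitt.sheafIdeal M r) := fun U => by
  rw [sheafIdeal_ideal (isFP_isQCoh hFP) (isFP_isFT hFP) r U]
  haveI := finitePresentation_sections hFP U.2
  exact FittingLib.ideal_fg r

/-- Sections of a pullback over an affine chart. -/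
theorem exists_sections_pullback {T : Scheme.{u}} (f : T ⟶ X) (hM : Coh.IsQCoh M) {U : X.Opens}
    (hU : IsAffineOpen U) {V : T.Opens} (hV : IsAffineOpen V) (hle : V ≤ f ⁻¹ᵁ U) :
    letI := (f.appLE U V hle).hom.toAlgebra
    Nonempty ((Γ(T, V) ⊗[Γ(X, U)] Γ(M, U)) ≃ₗ[Γ(T, V)]
      Γ((Scheme.Modules.pullback f).obj M, V)) := by
  letI := (f.appLE U V hle).hom.toAlgebra
  have hj : hV.fromSpec ≫ f = Spec.map (f.appLE U V hle) ≫ hU.fromSpec :=
    (IsAffineOpen.SpecMap_appLE_fromSpec f hU hV hle).symm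
  obtain ⟨e⟩ := nonempty_chart_iso hM f hU (f.appLE U V hle) hV.fromSpec hj
  let e' := (Scheme.Modules.restrictFunctorIsoPullback hV.fromSpec).app
    ((Scheme.Modules.pullback f).obj M) ≪≫ e
  let e₁ := (moduleSpecΓFunctor.mapIso e').toLinearEquiv
  let N := moduleSpecΓFunctor.obj (M.restrict hU.fromSpec)
  let e₂ := (tilde.isoTop ((ModuleCat.extendScalars (f.appLE U V hle).hom).obj N)).symm.toLinearEquiv
  let e₃ : (Γ(T, V) ⊗[Γ(X, U)] (N : Type u)) ≃ₗ[Γ(T, V)] (Γ(T, V) ⊗[Γ(X, U)] Γ(M, U)) :=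
    LinearEquiv.baseChange Γ(X, U) Γ(T, V) _ _ (affineSecEquiv M hU)
  exact ⟨e₃.symm ≪≫ₗ e₂.symm ≪≫ₗ e₁.symm ≪≫ₗ
    affineSecEquiv ((Scheme.Modules.pullback f).obj M) hV⟩

theorem comap_eq {T : Scheme.{u}} (f : T ⟶ X) (hM : Coh.IsQCoh M) (hFT : CohB1.IsFT M) (r : ℕ) :
    (Fitt.sheafIdeal M r).comap f =
      Fitt.sheafIdeal ((Scheme.Modules.pullback f).obj M) r := by
  refine EffCartier.eq_of_forall_exists fun t => ?_
  obtain ⟨U, hU, htU, -⟩ := exists_isAffineOpen_mem_and_subset (x := f t) (U := ⊤) trivial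
  obtain ⟨V, hV, htV, hle⟩ := exists_isAffineOpen_mem_and_subset (x := t) (U := f ⁻¹ᵁ U) htU
  refine ⟨⟨V, hV⟩, htV, ?_⟩
  rw [EffCartier.comap_ideal _ f ⟨U, hU⟩ ⟨V, hV⟩ hle, sheafIdeal_ideal hM hFT,
    sheafIdeal_ideal (isQCoh_pullback f hM) (isFT_pullback f hFT)]
  letI := (f.appLE U V hle).hom.toAlgebra
  haveI := finite_sections hM hFT hU
  obtain ⟨e⟩ := exists_sections_pullback f hM hU hV hle
  rw [← FittingLib.ideal_congr e r, FittingLib.ideal_baseChange]
  rfl

end Fitting26
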